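import Cfsg.Agent.H203.TW.Low
import Cfsg.Agent.H564.TW.Dat
import Cfsg.Agent.H564.U.Main
import Cfsg.Agent.KFacts.TwF4.Full

/-!
# The classes of root elements of `²F₄(q)` in `F₄(k)` (S3635, task O1')

* `tw hle : twistedF4 K e →* chevF4.group k` : base change;
* `tw_ro`, `tw_re` : the images of the root elements;
* `exists_cls` : the 12 classes `TwCls`.
-/

set_option autoImplicit false
set_option linter.unusedSectionVars false

namespace Cfsg.Agent.H203.TW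

open Cfsg Cfsg.Lie Cfsg.Agent.H45.UniE Cfsg.Agent.H405.UE Cfsg.Agent.H421.UniE
open Cfsg.Agent.ChevalleyStructure Cfsg.Agent.ChevalleyStructure.Elts
open Cfsg.Agent.Nodes.RGDChev Cfsg.Agent.KFacts.RgdChevCoord Cfsg.Agent.H129.TorusChar
open Cfsg.Agent.ChevalleyStructure.TwF4.Groups (isPosRoot_iff)
open Cfsg.Agent.ChevalleyStructure.TwF4.TwistedFix (Rln)
open Cfsg.Agent.KFacts.TwF4.Inst (go ge ro re oA oB eA eB eC eD lt48)
open Cfsg.Agent.H564.TW (qF)
open Cfsg.Agent.H564.U (zz zz_zero)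

/-! ### the inclusion in the Chevalley group -/

section incl

variable {K : Type*} [Field K] [CharP K 2]

theorem X_eq_xG (r : ℕ) (t : K) : TwF4.Rel.X r t = xG Nodes.KindF.isType.inList r t := Units.ext rfl

theorem twisted_le (e : ℕ) : twistedF4 K e ≤ chevF4.group K := by
  have h : ∀ w : List (ℕ × K), TwF4.Rel.W w ∈ chevF4.group K := by
    intro w
    induction w with
    | nil => exact one_mem _
    | cons p w ih =>
      rw [TwF4.Rel.W_cons, X_eq_xG]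
      exact mul_mem (xG_mem_group _ _ _) ih
  unfold twistedF4 ChevalleyDatum.genSubgroup
  rw [Subgroup.closure_le]
  rintro g ⟨w, hw, hgw⟩
  have : g = TwF4.Rel.W w := Units.ext (by rw [hgw, TwF4.Rel.coe_W])
  rw [this]
  exact h w

end incl

variable {K : Type*} [Field K] [CharP K 2] {k : Type*} [Field k] [Algebra K k]

/-- base change of the twisted group -/
def tw (K : Type*) [Field K] [CharP K 2] (k : Type*) [Field k] [Algebra K k] (e : ℕ) :
    ↥(twistedF4 K e) →* ↥(chevF4.group k) :=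
  (bcC Nodes.KindF.isType.inList (algebraMap K k)).comp (Subgroup.inclusion (twisted_le e))

theorem tw_inj (e : ℕ) : Function.Injective (tw K k e) :=
  (bcC_inj (algebraMap K k) Nodes.KindF.isType.inList).comp (Subgroup.inclusion_injective (twisted_le e))

variable [Finite K] {φ : K →+* K} {e : ℕ}

theorem tw_ro (hφ : Rln φ e) (a : ZMod 8) (t : K) : tw K k e (ro hφ a t) =
    zz Nodes.KindF.isType (oA a) (algebraMap K k t) * zz Nodes.KindF.isType (oB a) (algebraMap K k (φ t)) := by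
  apply Subtype.ext
  show Matrix.GeneralLinearGroup.map (algebraMap K k) (TwF4.Rel.X (oA a) t * TwF4.Rel.X (oB a) (φ t)) = _
  rw [map_mul, X_eq_xG, X_eq_xG, glmap_xG, glmap_xG]
  rfl

theorem tw_re (hφ : Rln φ e) (a : ZMod 8) (p u : K) : tw K k e (re hφ a p u) =
    zz Nodes.KindF.isType (eA a) (algebraMap K k p) * zz Nodes.KindF.isType (eB a) (algebraMap K k (φ p)) *
      zz Nodes.KindF.isType (eC a) (algebraMap K k (p * φ p + u)) *
      zz Nodes.KindF.isType (eD a) (algebraMap K k (φ u)) := by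
  apply Subtype.ext
  show Matrix.GeneralLinearGroup.map (algebraMap K k) (TwF4.Rel.X (eA a) p * TwF4.Rel.X (eB a) (φ p) *
    TwF4.Rel.X (eC a) (p * φ p + u) * TwF4.Rel.X (eD a) (φ u)) = _
  simp only [map_mul, X_eq_xG, glmap_xG]
  rfl

/-! ### the tables -/

/-- heights -/
def hv (r : ℕ) : ℤ := ∑ i : Fin 4, vec chevF4 4 r i

def hN (r : ℕ) : ℕ := (2 * hv r).toNat

/-- check of a class: `a` long, `b` short, positive, `l` the other members -/
def chk (a b : ℕ) (l : List (ℕ × ℕ × ℕ)) : Bool :=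
  decide (24 ≤ a) && decide (a < 48) && decide (24 ≤ b) && decide (b < 48) &&
  (chevF4.isLong a == true) && (chevF4.isLong b == false) && decide (hN b ≤ hN a) && decide (hN a ≤ 2 * hN b) &&
  l.all fun x => decide (24 ≤ x.1) && decide (x.1 < 48) && decide (hN x.1 = x.2.1 * hN a + x.2.2 * hN b)

/-- the classes -/
def tabC : List (ℕ × ℕ × List (ℕ × ℕ × ℕ)) :=
  ((List.range 4).map fun a : ℕ => (oB ((a : ℕ) : ZMod 8), oA ((a : ℕ) : ZMod 8),
    [(oA ((a : ℕ) : ZMod 8), 0, 1), (oB ((a : ℕ) : ZMod 8), 1, 0)])) ++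
  ((List.range 4).map fun a : ℕ => (eB ((a + 1 : ℕ) : ZMod 8), eA ((a + 1 : ℕ) : ZMod 8),
    [(eA ((a + 1 : ℕ) : ZMod 8), 0, 1), (eB ((a + 1 : ℕ) : ZMod 8), 1, 0), (eC ((a + 1 : ℕ) : ZMod 8), 1, 1)])) ++
  ((List.range 4).map fun a : ℕ => (eD ((a + 1 : ℕ) : ZMod 8), eC ((a + 1 : ℕ) : ZMod 8),
    [(eC ((a + 1 : ℕ) : ZMod 8), 0, 1), (eD ((a + 1 : ℕ) : ZMod 8), 1, 0)]))

theorem tabC_ok : (tabC.all fun x => chk x.1 x.2.1 x.2.2) = true := by decide +kernel

theorem tabC_all : ((List.range 24).all fun r => tabC.any fun x => (x.1 == r + 24) || (x.2.1 == r + 24)) = true := by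
  decide +kernel

open Classical in
/-- a positive root from its index -/
noncomputable def pr (r : ℕ) : PR chevF4 :=
  if h : chevF4.IsPosRoot r then ⟨r, h⟩ else ⟨33, (isPosRoot_iff 33).2 ⟨by decide, by decide⟩⟩

theorem pr_val {r : ℕ} (h1 : 24 ≤ r) (h2 : r < 48) : (pr r).1 = r := by
  unfold pr
  rw [dif_pos ((isPosRoot_iff r).2 ⟨h2, h1⟩)]

theorem htt_eq (b : PR chevF4) : htt chevF4 4 b = hN b.1 := rfl

universe u

section build

variable {K : Type*} [Field K] [CharP K 2] {k : Type u} [Field k] [Algebra K k]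

theorem wd_map {l : List (ℕ × ℕ × ℕ)} (h : ∀ x ∈ l, 24 ≤ x.1 ∧ x.1 < 48) (s t : k) :
    wd (gdat Nodes.KindF.isType k).z (l.map fun x => (pr x.1, (1 : k), x.2)) s t =
      (l.map fun x => zz Nodes.KindF.isType x.1 (s ^ x.2.1 * t ^ x.2.2)).prod := by
  induction l with
  | nil => rfl
  | cons x l ih =>
    have h1 := ih fun y hy => h y (List.mem_cons_of_mem _ hy)
    obtain ⟨h2, h3⟩ := h x List.mem_cons_self
    unfold wd at h1 ⊢
    rw [List.map_cons, List.map_cons, List.prod_cons, h1, List.map_cons, List.prod_cons]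
    congr 1
    show zz Nodes.KindF.isType (pr x.1).1 (1 * s ^ x.2.1 * t ^ x.2.2) = _
    rw [pr_val h2 h3, one_mul]

theorem chk_spec {a b : ℕ} {l : List (ℕ × ℕ × ℕ)} (h : chk a b l = true) :
    (24 ≤ a ∧ a < 48) ∧ (24 ≤ b ∧ b < 48) ∧ chevF4.isLong a = true ∧ chevF4.isLong b = false ∧ hN b ≤ hN a ∧
      hN a ≤ 2 * hN b ∧ ∀ x ∈ l, (24 ≤ x.1 ∧ x.1 < 48) ∧ hN x.1 = x.2.1 * hN a + x.2.2 * hN b := by
  unfold chk at h
  simp only [Bool.and_eq_true, decide_eq_true_eq, List.all_eq_true, beq_iff_eq] at h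
  obtain ⟨⟨⟨⟨⟨⟨⟨⟨h1, h2⟩, h3⟩, h4⟩, h5⟩, h6⟩, h7⟩, h8⟩, h9⟩ := h
  exact ⟨⟨h1, h2⟩, ⟨h3, h4⟩, h5, h6, h7, h8, h9⟩

/-- the class from the tables -/
noncomputable def mkCls {m : ℕ} (hm : 1 ≤ m) {P : Subgroup ↥(chevF4.group k)} {a b : ℕ} {l : List (ℕ × ℕ × ℕ)}
    (h : chk a b l = true)
    (ha : ∀ s : k, (l.map fun x => zz Nodes.KindF.isType x.1 (s ^ x.2.1 * 0 ^ x.2.2)).prod = zz Nodes.KindF.isType a s)
    (hb : ∀ t : k, (l.map fun x => zz Nodes.KindF.isType x.1 (0 ^ x.2.1 * t ^ x.2.2)).prod = zz Nodes.KindF.isType b t)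
    (mem : ∀ t : K, (l.map fun x => zz Nodes.KindF.isType x.1
      ((algebraMap K k t ^ 2 ^ (m + 1)) ^ x.2.1 * algebraMap K k t ^ x.2.2)).prod ∈ P) :
    TwCls (gdat Nodes.KindF.isType k) K P (2 ^ m) (2 ^ (m + 1)) where
  a := pr a
  b := pr b
  l := l.map fun x => (pr x.1, (1 : k), x.2)
  hl := by
    obtain ⟨ha, hb, -, -, -, -, hl⟩ := chk_spec h
    intro x hx
    obtain ⟨y, hy, rfl⟩ := List.mem_map.1 hx
    obtain ⟨h1, h2⟩ := hl y hy
    show htt chevF4 4 (pr y.1) = y.2.1 * htt chevF4 4 (pr a) + y.2.2 * htt chevF4 4 (pr b)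
    rw [htt_eq, htt_eq, htt_eq, pr_val h1.1 h1.2, pr_val ha.1 ha.2, pr_val hb.1 hb.2, h2]
  ha s := by
    obtain ⟨ha', -, -, -, -, -, hl⟩ := chk_spec h
    rw [wd_map (fun x hx => (hl x hx).1), ha]
    show _ = zz Nodes.KindF.isType (pr a).1 s
    rw [pr_val ha'.1 ha'.2]
  hb t := by
    obtain ⟨-, hb', -, -, -, -, hl⟩ := chk_spec h
    rw [wd_map (fun x hx => (hl x hx).1), hb]
    show _ = zz Nodes.KindF.isType (pr b).1 t
    rw [pr_val hb'.1 hb'.2]
  h1 := by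
    obtain ⟨ha', hb', -, -, h5, -, -⟩ := chk_spec h
    have h6 := htt_pos Nodes.KindF.isType (pr a)
    have h7 : 2 ^ 1 ≤ 2 ^ m := Nat.pow_le_pow_right (by norm_num) hm
    show htt chevF4 4 (pr b) < 2 ^ m * htt chevF4 4 (pr a)
    rw [htt_eq, pr_val ha'.1 ha'.2] at h6
    rw [htt_eq, htt_eq, pr_val ha'.1 ha'.2, pr_val hb'.1 hb'.2]
    nlinarith
  h2 := by
    obtain ⟨ha', hb', -, -, -, h5, -⟩ := chk_spec h
    have h6 := htt_pos Nodes.KindF.isType (pr b)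
    have h7 : 2 ^ 2 ≤ 2 ^ (m + 1) := Nat.pow_le_pow_right (by norm_num) (by omega)
    show htt chevF4 4 (pr a) < 2 ^ (m + 1) * htt chevF4 4 (pr b)
    rw [htt_eq, pr_val hb'.1 hb'.2] at h6
    rw [htt_eq, htt_eq, pr_val ha'.1 ha'.2, pr_val hb'.1 hb'.2]
    nlinarith
  mem t := by
    obtain ⟨-, -, -, -, -, -, hl⟩ := chk_spec h
    rw [wd_map (fun x hx => (hl x hx).1)]
    exact mem t

end build

section cls

variable {K : Type*} [Field K] [CharP K 2] [Finite K] {φ : K →+* K} {k : Type u} [Field k] [Algebra K k]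

theorem phi_eq {m : ℕ} (hφ : Rln φ (2 ^ m)) (t : K) : algebraMap K k (φ t) = algebraMap K k t ^ 2 ^ (m + 1) := by
  rw [hφ.phi, ← pow_mul, ← pow_succ, map_pow]

/-- **the classes** -/
theorem exists_cls {m : ℕ} (hm : 1 ≤ m) (hφ : Rln φ (2 ^ m)) {U : Subgroup ↥(twistedF4 K (2 ^ m))}
    (hUo : ∀ a < 4, ∀ t, ro hφ ((a : ℕ) : ZMod 8) t ∈ U) (hUe : ∀ a < 4, ∀ p u, re hφ (((a + 1 : ℕ)) : ZMod 8) p u ∈ U)
    (c : PR chevF4) : ∃ T : TwCls (gdat Nodes.KindF.isType k) K (U.map (tw K k (2 ^ m))) (2 ^ m) (2 ^ (m + 1)),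
      (c = T.a ∧ qF m c = 2 ^ m) ∨ (c = T.b ∧ qF m c = 2 ^ (m + 1)) := by
  obtain ⟨h1, h2⟩ := (isPosRoot_iff c.1).1 c.2
  have h3 := tabC_all
  rw [List.all_eq_true] at h3
  have h4 := h3 (c.1 - 24) (List.mem_range.2 (by omega))
  rw [Nat.sub_add_cancel h2, List.any_eq_true] at h4
  obtain ⟨x, hx, h5⟩ := h4
  have h6 := tabC_ok
  rw [List.all_eq_true] at h6
  have h7 := h6 x hx
  have z0 : ∀ r, zz Nodes.KindF.isType r (0 : k) = 1 := fun r => zz_zero Nodes.KindF.isType r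
  suffices key : ∃ T : TwCls (gdat Nodes.KindF.isType k) K (U.map (tw K k (2 ^ m))) (2 ^ m) (2 ^ (m + 1)),
      T.a = pr x.1 ∧ T.b = pr x.2.1 by
    obtain ⟨T, hTa, hTb⟩ := key
    refine ⟨T, ?_⟩
    obtain ⟨ha, hb, hla, hlb, -⟩ := chk_spec h7
    simp only [Bool.or_eq_true, beq_iff_eq] at h5
    rcases h5 with h5 | h5
    · left
      refine ⟨?_, ?_⟩
      · rw [hTa]; apply Subtype.ext; rw [pr_val ha.1 ha.2, h5]
      · unfold qF; rw [← h5, if_pos hla]
    · right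
      refine ⟨?_, ?_⟩
      · rw [hTb]; apply Subtype.ext; rw [pr_val hb.1 hb.2, h5]
      · unfold qF; rw [← h5, if_neg (by rw [hlb]; simp)]
  unfold tabC at hx
  rw [List.mem_append, List.mem_append] at hx
  rcases hx with (hx | hx) | hx
  · obtain ⟨a, ha, rfl⟩ := List.mem_map.1 hx
    rw [List.mem_range] at ha
    refine ⟨mkCls hm h7 (fun s => ?_) (fun t => ?_) (fun t => ?_), rfl, rfl⟩
    · simp [z0]
    · simp [z0]
    · refine ⟨ro hφ a t, hUo a ha t, ?_⟩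
      rw [tw_ro, phi_eq hφ]
      simp
  · obtain ⟨a, ha, rfl⟩ := List.mem_map.1 hx
    rw [List.mem_range] at ha
    refine ⟨mkCls hm h7 (fun s => ?_) (fun t => ?_) (fun t => ?_), rfl, rfl⟩
    · simp [z0]
    · simp [z0]
    · refine ⟨re hφ _ t 0, hUe a ha t 0, ?_⟩
      rw [tw_re, map_zero φ, map_zero (algebraMap K k), z0, mul_one, add_zero, map_mul, phi_eq hφ]
      simp [mul_assoc, mul_comm]
  · obtain ⟨a, ha, rfl⟩ := List.mem_map.1 hx
    rw [List.mem_range] at ha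
    refine ⟨mkCls hm h7 (fun s => ?_) (fun t => ?_) (fun t => ?_), rfl, rfl⟩
    · simp [z0]
    · simp [z0]
    · refine ⟨re hφ _ 0 t, hUe a ha 0 t, ?_⟩
      rw [tw_re, map_zero φ, map_zero (algebraMap K k), z0, z0, one_mul, zero_mul, zero_add, one_mul, phi_eq hφ]
      simp

end cls

end Cfsg.Agent.H203.TW
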