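import Cfsg.Agent.H45.UniE.Curtis

/-!
# Theorem (U) for twisted groups: the lowest component (task O1 of S3635)

`DatR.low_tw` : for a pair of positive roots `a`, `b` and a family `w (s, t)` of products of root elements with
`w (s, 0) = z a s`, `w (0, t) = z b t`, and `F ∈ L` fixed by all `w (t ^ Q₂, t)`, `t ∈ F_q`, `q = Q₁ Q₂`: the lowest
component of `F` is killed by `X a i`, `0 < i < Q₁`, and `X b j`, `0 < j < Q₂`.
-/

set_option autoImplicit false
set_option linter.unusedSectionVars false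

namespace Cfsg.Agent.H203.TW

open Polynomial Finset Cfsg.Agent.H45.Uni Cfsg.Agent.H45.UniE

/-- reduction of the exponents -/
theorem cost_lt {Q₁ Q₂ da db : ℕ} (hQ₁ : 0 < Q₁) (hQ₂ : 0 < Q₂) (h1 : db < Q₁ * da) (h2 : da < Q₂ * db)
    {i₀ j₀ : ℕ} (hi₀ : i₀ < Q₁) (hj₀ : j₀ < Q₂) (h0 : i₀ ≠ 0 ∨ j₀ ≠ 0) :
    ∀ N i j, i * da + j * db = N → (i ≠ 0 ∨ j ≠ 0) → Q₂ * i + j ≡ Q₂ * i₀ + j₀ [MOD (Q₁ * Q₂ - 1)] →
      (i = i₀ ∧ j = j₀) ∨ i₀ * da + j₀ * db < i * da + j * db := by
  intro N
  induction N using Nat.strong_induction_on with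
  | _ N ih =>
  intro i j hN hij hmod
  by_cases hi : i < Q₁
  · by_cases hj : j < Q₂
    · left
      -- both in the box
      have e1 : Q₂ * i + j < Q₁ * Q₂ := by nlinarith
      have e2 : Q₂ * i₀ + j₀ < Q₁ * Q₂ := by nlinarith
      have e3 : 0 < Q₂ * i + j := by
        rcases hij with h | h
        · have := Nat.mul_pos hQ₂ (Nat.pos_of_ne_zero h); omega
        · omega
      have e4 : 0 < Q₂ * i₀ + j₀ := by
        rcases h0 with h | h
        · have := Nat.mul_pos hQ₂ (Nat.pos_of_ne_zero h); omega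
        · omega
      have e5 : Q₂ * i + j = Q₂ * i₀ + j₀ := by
        -- the difference is a multiple of `Q₁ Q₂ - 1` and smaller
        rcases le_total (Q₂ * i + j) (Q₂ * i₀ + j₀) with h | h
        · have h3 := (Nat.modEq_iff_dvd' h).1 hmod
          have h4 := Nat.eq_zero_of_dvd_of_lt h3 (by omega)
          omega
        · have h3 := (Nat.modEq_iff_dvd' h).1 hmod.symm
          have h4 := Nat.eq_zero_of_dvd_of_lt h3 (by omega)
          omega
      have e6 : i = i₀ := by
        have h3 := congrArg (· / Q₂) e5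
        simp only [Nat.mul_add_div hQ₂, Nat.div_eq_of_lt hj, Nat.div_eq_of_lt hj₀, add_zero] at h3
        exact h3
      subst e6
      exact ⟨rfl, by omega⟩
    · right
      have h5 : (i + 1) * da + (j - Q₂) * db < N := by
        obtain ⟨c, rfl⟩ := Nat.exists_eq_add_of_le (not_lt.1 hj)
        rw [Nat.add_sub_cancel_left, ← hN]
        nlinarith
      have h6 : Q₂ * (i + 1) + (j - Q₂) = Q₂ * i + j := by
        obtain ⟨c, rfl⟩ := Nat.exists_eq_add_of_le (not_lt.1 hj)
        rw [Nat.add_sub_cancel_left]; ring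
      rcases ih _ h5 (i + 1) (j - Q₂) rfl (Or.inl (Nat.succ_ne_zero i)) (by rw [h6]; exact hmod) with ⟨h7, h8⟩ | h7
      · rw [← h7, ← h8]; omega
      · omega
  · right
    have h5 : (i - Q₁) * da + (j + 1) * db < N := by
      obtain ⟨c, rfl⟩ := Nat.exists_eq_add_of_le (not_lt.1 hi)
      rw [Nat.add_sub_cancel_left, ← hN]
      nlinarith
    have h6 : Q₂ * i + j = Q₂ * (i - Q₁) + (j + 1) + (Q₁ * Q₂ - 1) := by
      obtain ⟨c, rfl⟩ := Nat.exists_eq_add_of_le (not_lt.1 hi)
      rw [Nat.add_sub_cancel_left]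
      have : 0 < Q₁ * Q₂ := Nat.mul_pos hQ₁ hQ₂
      have e : Q₂ * (Q₁ + c) = Q₁ * Q₂ + Q₂ * c := by ring
      omega
    have h7 : Q₂ * (i - Q₁) + (j + 1) ≡ Q₂ * i₀ + j₀ [MOD (Q₁ * Q₂ - 1)] := by
      refine Nat.ModEq.trans ?_ hmod
      rw [h6]
      exact (Nat.add_mod_right _ _).symm
    rcases ih _ h5 (i - Q₁) (j + 1) rfl (Or.inr (Nat.succ_ne_zero j)) h7 with ⟨h8, h9⟩ | h8
    · rw [← h8, ← h9]; omega
    · omega

variable {ι Φ k G : Type*} [Field k] [Group G] (D : DatR ι Φ k G)

/-- products of root elements with monomial parameters -/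
def wd (z : Φ → k → G) (l : List (Φ × k × ℕ × ℕ)) (s t : k) : G :=
  (l.map fun x => z x.1 (x.2.1 * s ^ x.2.2.1 * t ^ x.2.2.2)).prod

theorem δ_wd (D : DatR ι Φ k G) {da db : ℕ} {l : List (Φ × k × ℕ × ℕ)}
    (hl : ∀ x ∈ l, D.ht x.1 = x.2.2.1 * da + x.2.2.2 * db) (u : kˣ) (s t : k) :
    D.δ u * wd D.z l s t = wd D.z l ((u : k) ^ da * s) ((u : k) ^ db * t) * D.δ u := by
  induction l with
  | nil => simp [wd]
  | cons x l ih =>
    have h1 := ih fun y hy => hl y (List.mem_cons_of_mem _ hy)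
    have h2 := hl x List.mem_cons_self
    unfold wd at h1 ⊢
    rw [List.map_cons, List.prod_cons, List.map_cons, List.prod_cons, ← mul_assoc, D.δ_z, mul_assoc, h1, ← mul_assoc]
    congr 3
    rw [h2, pow_add, pow_mul', pow_mul', mul_pow, mul_pow]
    ring

variable [Infinite k]

/-- the functions in `L` are polynomial on `wd` -/
theorem pol_wd (l : List (Φ × k × ℕ × ℕ)) : ∀ (F : G → k), F ∈ D.L → ∀ g, ∃ (B : ℕ) (c : ℕ → ℕ → k),
    ∀ s t, F (g * wd D.z l s t) = ∑ i ∈ range B, ∑ j ∈ range B, c i j * s ^ i * t ^ j := by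
  induction l using List.reverseRecOn with
  | nil =>
    intro F _ g
    exact ⟨1, fun _ _ => F g, fun s t => by simp [wd]⟩
  | append_singleton l x ih =>
    intro F hF g
    obtain ⟨a, κ, e, f⟩ := x
    choose B c hc using fun n : ℕ => ih (D.X a n F) (D.X_mem a n hF) g
    -- bound
    let B' := (∑ n ∈ range (D.N + 1), B n) + e * D.N + f * D.N
    refine ⟨B', fun i' j' => ∑ n ∈ range (D.N + 1), ∑ i ∈ range (B n), ∑ j ∈ range (B n),
      if i + e * n = i' ∧ j + f * n = j' then c n i j * κ ^ n else 0, fun s t => ?_⟩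
    have h1 : F (g * wd D.z (l ++ [(a, κ, e, f)]) s t) = ∑ n ∈ range (D.N + 1),
        D.X a n F (g * wd D.z l s t) * (κ * s ^ e * t ^ f) ^ n := by
      unfold wd
      rw [List.map_append, List.prod_append, List.map_singleton, List.prod_singleton, ← mul_assoc, D.expand_z hF]
    rw [h1]
    simp only [Finset.sum_mul]
    have hB : ∀ n ∈ range (D.N + 1), ∀ i ∈ range (B n), i + e * n < B' ∧ i + f * n < B' := by
      intro n hn i hi
      have h2 : B n ≤ ∑ n ∈ range (D.N + 1), B n :=
        Finset.single_le_sum (f := B) (fun _ _ => Nat.zero_le _) hn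
      rw [Finset.mem_range] at hn hi
      have h3 : e * n ≤ e * D.N := Nat.mul_le_mul_left _ (by omega)
      have h4 : f * n ≤ f * D.N := Nat.mul_le_mul_left _ (by omega)
      constructor <;> (show _ < (∑ n ∈ range (D.N + 1), B n) + e * D.N + f * D.N) <;> omega
    -- right hand side
    have h2 : ∀ i' ∈ range B', (∑ j' ∈ range B', ∑ n ∈ range (D.N + 1), (∑ i ∈ range (B n), ∑ j ∈ range (B n),
        (if i + e * n = i' ∧ j + f * n = j' then c n i j * κ ^ n else 0) * s ^ i' * t ^ j') ) =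
        ∑ n ∈ range (D.N + 1), ∑ i ∈ range (B n), ∑ j ∈ range (B n), if i + e * n = i' then
          c n i j * κ ^ n * s ^ i' * t ^ (j + f * n) else 0 := by
      intro i' _
      rw [Finset.sum_comm]
      refine Finset.sum_congr rfl fun n hn => ?_
      rw [Finset.sum_comm]
      refine Finset.sum_congr rfl fun i hi => ?_
      rw [Finset.sum_comm]
      refine Finset.sum_congr rfl fun j hj => ?_
      by_cases h3 : i + e * n = i'
      · rw [if_pos h3, Finset.sum_eq_single (j + f * n)]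
        · rw [if_pos ⟨h3, rfl⟩]
        · intro j' _ hj'
          rw [if_neg (fun h => hj' h.2.symm)]
          simp
        · intro h
          exact absurd (Finset.mem_range.2 (hB n hn j hj).2) h
      · rw [if_neg h3]
        refine Finset.sum_eq_zero fun j' _ => ?_
        rw [if_neg (fun h => h3 h.1)]
        simp
    rw [Finset.sum_congr rfl h2, Finset.sum_comm]
    refine Finset.sum_congr rfl fun n hn => ?_
    rw [Finset.sum_comm, hc n s t, Finset.sum_mul]
    refine Finset.sum_congr rfl fun i hi => ?_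
    rw [Finset.sum_comm, Finset.sum_mul]
    refine Finset.sum_congr rfl fun j hj => ?_
    rw [Finset.sum_eq_single (i + e * n)]
    · rw [if_pos rfl, pow_add, pow_add, mul_pow, mul_pow, pow_mul, pow_mul]
      ring
    · intro i' _ hi'
      rw [if_neg (fun h => hi' h.symm)]
    · intro h
      exact absurd (Finset.mem_range.2 (hB n hn i hi).1) h

theorem coeff_zero_of_fun {B : ℕ} {c : ℕ → ℕ → k}
    (h : ∀ s t : k, ∑ i ∈ range B, ∑ j ∈ range B, c i j * s ^ i * t ^ j = 0) : ∀ i < B, ∀ j < B, c i j = 0 := by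
  have h1 : ∀ s : k, ∀ j < B, ∑ i ∈ range B, c i j * s ^ i = 0 := by
    intro s j hj
    have h2 : (∑ j ∈ range B, C (∑ i ∈ range B, c i j * s ^ i) * Polynomial.X ^ j : k[X]) = 0 := by
      apply Polynomial.funext
      intro t
      rw [eval_finsetSum, eval_zero, ← h s t, Finset.sum_comm]
      refine Finset.sum_congr rfl fun j _ => ?_
      rw [eval_mul, eval_C, eval_pow, eval_X, Finset.sum_mul]
    have h3 := congrArg (fun P : k[X] => P.coeff j) h2
    simp only [finsetSum_coeff, coeff_C_mul, coeff_X_pow, coeff_zero] at h3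
    rw [Finset.sum_eq_single j] at h3
    · simpa using h3
    · intro j' _ hj'
      rw [if_neg (fun h => hj' h.symm), mul_zero]
    · intro h
      exact absurd (Finset.mem_range.2 hj) h
  intro i hi j hj
  have h2 : (∑ i ∈ range B, C (c i j) * Polynomial.X ^ i : k[X]) = 0 := by
    apply Polynomial.funext
    intro s
    rw [eval_finsetSum, eval_zero, ← h1 s j hj]
    exact Finset.sum_congr rfl fun i _ => by rw [eval_mul, eval_C, eval_pow, eval_X]
  have h3 := congrArg (fun P : k[X] => P.coeff i) h2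
  simp only [finsetSum_coeff, coeff_C_mul, coeff_X_pow, coeff_zero] at h3
  rw [Finset.sum_eq_single i] at h3
  · simpa using h3
  · intro i' _ hi'
    rw [if_neg (fun h => hi' h.symm), mul_zero]
  · intro h
    exact absurd (Finset.mem_range.2 hi) h

/-- **the lowest component, twisted form** -/
theorem low_tw {Fq : Type*} [Field Fq] [Fintype Fq] [Algebra Fq k] {Q₁ Q₂ : ℕ}
    (hcard : Fintype.card Fq = Q₁ * Q₂) {a b : Φ} (l : List (Φ × k × ℕ × ℕ))
    (hl : ∀ x ∈ l, D.ht x.1 = x.2.2.1 * D.ht a + x.2.2.2 * D.ht b)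
    (ha : ∀ s, wd D.z l s 0 = D.z a s) (hb : ∀ t, wd D.z l 0 t = D.z b t)
    (h1 : D.ht b < Q₁ * D.ht a) (h2 : D.ht a < Q₂ * D.ht b) {F : G → k} (hF : F ∈ D.L)
    (hfix : ∀ (t : Fq) g, F (g * wd D.z l (algebraMap Fq k t ^ Q₂) (algebraMap Fq k t)) = F g) {n : ℕ}
    (hlow : ∀ m < n, D.H m F = 0) :
    (∀ i, 0 < i → i < Q₁ → D.X a i (D.H n F) = 0) ∧ (∀ j, 0 < j → j < Q₂ → D.X b j (D.H n F) = 0) := by
  classical
  have hQ : 0 < Q₁ * Q₂ := hcard ▸ Fintype.card_pos
  have hQ₁ : 0 < Q₁ := Nat.pos_of_mul_pos_right hQ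
  have hQ₂ : 0 < Q₂ := Nat.pos_of_mul_pos_left hQ
  have hq1 : 1 < Q₁ * Q₂ := hcard ▸ Fintype.one_lt_card
  by_cases hn : n ≤ D.N
  swap
  · have h0 : D.H n F = 0 := by
      funext g
      obtain ⟨P, hP, h⟩ := D.L_pol_δ hF g
      rw [D.H_apply hF n h]
      exact coeff_eq_zero_of_natDegree_lt (by omega)
    rw [h0]
    exact ⟨fun i _ _ => map_zero _, fun j _ _ => map_zero _⟩
  set da := D.ht a with hda
  set db := D.ht b with hdb
  -- the coefficients
  suffices key : ∀ g, ∃ (B : ℕ) (c : ℕ → ℕ → k), (∀ s t, D.H n F (g * wd D.z l s t) =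
      ∑ i ∈ range B, ∑ j ∈ range B, c i j * s ^ i * t ^ j) ∧
      ∀ i < Q₁, ∀ j < Q₂, (i ≠ 0 ∨ j ≠ 0) → i < B → j < B → c i j = 0 by
    constructor
    · intro i hi0 hi
      funext g
      obtain ⟨B, c, hc, hz⟩ := key g
      have h3 : ∀ s, D.H n F (g * D.z a s) = (∑ i ∈ range B, C (if 0 < B then c i 0 else 0) * Polynomial.X ^ i : k[X]).eval s := by
        intro s
        rw [← ha, hc, eval_finsetSum]
        refine Finset.sum_congr rfl fun i hi => ?_
        rw [Finset.mem_range] at hi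
        have hB : 0 < B := by omega
        rw [Finset.sum_eq_single 0, eval_mul, eval_C, eval_pow, eval_X, if_pos hB, pow_zero, mul_one]
        · intro j _ hj
          rw [zero_pow hj, mul_zero]
        · intro h
          exact absurd (Finset.mem_range.2 hB) h
      rw [D.X_apply (D.H_mem n hF) a i h3, finsetSum_coeff]
      show _ = (0 : k)
      refine Finset.sum_eq_zero fun i' hi' => ?_
      rw [Finset.mem_range] at hi'
      rw [coeff_C_mul, coeff_X_pow]
      split_ifs with h4 h5 h5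
      · subst h5
        rw [hz i hi 0 hQ₂ (Or.inl hi0.ne') hi' h4, zero_mul]
      · rw [mul_zero]
      · rw [zero_mul]
      · rw [zero_mul]
    · intro j hj0 hj
      funext g
      obtain ⟨B, c, hc, hz⟩ := key g
      have h3 : ∀ t, D.H n F (g * D.z b t) = (∑ j ∈ range B, C (if 0 < B then c 0 j else 0) * Polynomial.X ^ j : k[X]).eval t := by
        intro t
        rw [← hb, hc, eval_finsetSum, Finset.sum_comm]
        refine Finset.sum_congr rfl fun j hj => ?_
        rw [Finset.mem_range] at hj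
        have hB : 0 < B := by omega
        rw [Finset.sum_eq_single 0, eval_mul, eval_C, eval_pow, eval_X, if_pos hB, pow_zero, mul_one]
        · intro i _ hi
          rw [zero_pow hi, mul_zero, zero_mul]
        · intro h
          exact absurd (Finset.mem_range.2 hB) h
      rw [D.X_apply (D.H_mem n hF) b j h3, finsetSum_coeff]
      show _ = (0 : k)
      refine Finset.sum_eq_zero fun j' hj' => ?_
      rw [Finset.mem_range] at hj'
      rw [coeff_C_mul, coeff_X_pow]
      split_ifs with h4 h5 h5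
      · subst h5
        rw [hz 0 hQ₁ j hj (Or.inr hj0.ne') h4 hj', zero_mul]
      · rw [mul_zero]
      · rw [zero_mul]
      · rw [zero_mul]
  intro g
  choose B c hc using fun m : ℕ => pol_wd D l (D.H m F) (D.H_mem m hF) g
  -- `c m = 0` for `m < n`
  have hc0 : ∀ m < n, ∀ i < B m, ∀ j < B m, c m i j = 0 := by
    intro m hm
    apply coeff_zero_of_fun
    intro s t
    rw [← hc, hlow m hm]
    rfl
  refine ⟨B n, c n, hc n, ?_⟩
  intro i₀ hi₀ j₀ hj₀ h0 hiB hjB
  -- the identity of polynomials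
  let w : Fq → k → k → G := fun τ x y => wd D.z l (x * algebraMap Fq k τ ^ Q₂) (y * algebraMap Fq k τ)
  have h3 : ∀ (τ : Fq), (∑ m ∈ range (D.N + 1), ∑ i ∈ range (B m), ∑ j ∈ range (B m),
      C (c m i j * algebraMap Fq k τ ^ (Q₂ * i + j)) * Polynomial.X ^ (m + i * da + j * db) : k[X]) =
      ∑ m ∈ range (D.N + 1), C (D.H m F g) * Polynomial.X ^ m := by
    intro τ
    apply DatR.pol_ext
    intro u
    have h4 := D.expand_δ hF (g * wd D.z l ((u : k) ^ da * algebraMap Fq k τ ^ Q₂) ((u : k) ^ db * algebraMap Fq k τ)) u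
    have h5 := D.expand_δ hF g u
    rw [mul_assoc g, ← δ_wd D hl, ← mul_assoc, hfix, h5] at h4
    simp only [eval_finsetSum, eval_mul, eval_C, eval_pow, eval_X]
    rw [h4]
    refine Finset.sum_congr rfl fun m _ => ?_
    rw [hc m, Finset.sum_mul]
    refine Finset.sum_congr rfl fun i _ => ?_
    rw [Finset.sum_mul]
    refine Finset.sum_congr rfl fun j _ => ?_
    rw [mul_pow, mul_pow, ← pow_mul, ← pow_mul, ← pow_mul, pow_add, pow_add, pow_add, mul_comm da, mul_comm db]
    ring
  -- coefficient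
  let Dt := i₀ * da + j₀ * db
  have h4 : ∀ τ : Fq, ∑ m ∈ range (D.N + 1), ∑ i ∈ range (B m), ∑ j ∈ range (B m),
      (if m + i * da + j * db = n + Dt then c m i j * algebraMap Fq k τ ^ (Q₂ * i + j) else 0) =
      ∑ m ∈ range (D.N + 1), if m = n + Dt then D.H m F g else 0 := by
    intro τ
    have h5 := congrArg (fun P : k[X] => P.coeff (n + Dt)) (h3 τ)
    simp only [finsetSum_coeff, coeff_C_mul, coeff_X_pow, mul_ite, mul_one, mul_zero] at h5
    simp only [eq_comm (a := n + Dt)] at h5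
    exact h5
  -- the terms `(0, 0)`
  have hc00 : ∀ m, ∑ i ∈ range (B m), ∑ j ∈ range (B m), (if i = 0 ∧ j = 0 then c m i j else 0) = D.H m F g := by
    intro m
    have h5 := hc m 0 0
    rw [hb, D.z_zero, mul_one] at h5
    rw [h5]
    refine Finset.sum_congr rfl fun i _ => Finset.sum_congr rfl fun j _ => ?_
    by_cases hi : i = 0
    · by_cases hj : j = 0
      · rw [if_pos ⟨hi, hj⟩, hi, hj]; simp
      · rw [if_neg (fun h => hj h.2), zero_pow hj, mul_zero]
    · rw [if_neg (fun h => hi h.1), zero_pow hi]; simp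
  -- reduced exponents
  let rd : ℕ → ℕ := fun e => (e - 1) % (Q₁ * Q₂ - 1) + 1
  have hrd : ∀ (τ : Fq) e, 0 < e → algebraMap Fq k τ ^ e = algebraMap Fq k τ ^ rd e := by
    intro τ e he
    by_cases hτ : τ = 0
    · rw [hτ, map_zero, zero_pow he.ne', zero_pow (Nat.succ_ne_zero _)]
    · have h5 : τ ^ (Q₁ * Q₂ - 1) = 1 := by rw [← hcard]; exact FiniteField.pow_card_sub_one_eq_one τ hτ
      rw [← map_pow, ← map_pow]
      congr 1
      have h6 : e = (Q₁ * Q₂ - 1) * ((e - 1) / (Q₁ * Q₂ - 1)) + rd e := by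
        have := Nat.div_add_mod (e - 1) (Q₁ * Q₂ - 1)
        show _ = _ + ((e - 1) % (Q₁ * Q₂ - 1) + 1)
        omega
      conv_lhs => rw [h6]
      rw [pow_add, pow_mul, h5, one_pow, one_mul]
  have hrd2 : ∀ e, rd e ≤ Q₁ * Q₂ - 1 := by
    intro e
    have : (e - 1) % (Q₁ * Q₂ - 1) < Q₁ * Q₂ - 1 := Nat.mod_lt _ (by omega)
    show _ + 1 ≤ _
    omega
  let R : k[X] := ∑ m ∈ range (D.N + 1), ∑ i ∈ range (B m), ∑ j ∈ range (B m),
    C (if m + i * da + j * db = n + Dt ∧ (i ≠ 0 ∨ j ≠ 0) then c m i j else 0) * Polynomial.X ^ rd (Q₂ * i + j)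
  have hR : ∀ τ : Fq, R.eval (algebraMap Fq k τ) = 0 := by
    intro τ
    have h5 : R.eval (algebraMap Fq k τ) + ∑ m ∈ range (D.N + 1), (if m = n + Dt then D.H m F g else 0) =
        ∑ m ∈ range (D.N + 1), if m = n + Dt then D.H m F g else 0 := by
      conv_rhs => rw [← h4 τ]
      show (∑ m ∈ range (D.N + 1), ∑ i ∈ range (B m), ∑ j ∈ range (B m),
        C (if m + i * da + j * db = n + Dt ∧ (i ≠ 0 ∨ j ≠ 0) then c m i j else 0) *
          Polynomial.X ^ rd (Q₂ * i + j) : k[X]).eval (algebraMap Fq k τ) + _ = _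
      rw [eval_finsetSum, ← Finset.sum_add_distrib]
      refine Finset.sum_congr rfl fun m _ => ?_
      have h6 : (if m = n + Dt then D.H m F g else 0) = ∑ i ∈ range (B m), ∑ j ∈ range (B m),
          (if m = n + Dt then (if i = 0 ∧ j = 0 then c m i j else 0) else 0) := by
        split_ifs with h
        · rw [hc00]
        · simp
      rw [h6, eval_finsetSum, ← Finset.sum_add_distrib]
      refine Finset.sum_congr rfl fun i _ => ?_
      rw [eval_finsetSum, ← Finset.sum_add_distrib]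
      refine Finset.sum_congr rfl fun j _ => ?_
      rw [eval_mul, eval_C, eval_pow, eval_X]
      by_cases hij : i = 0 ∧ j = 0
      · obtain ⟨rfl, rfl⟩ := hij
        simp
      · have hij' : i ≠ 0 ∨ j ≠ 0 := by omega
        have h7 : 0 < Q₂ * i + j := by
          rcases hij' with h | h
          · have := Nat.mul_pos hQ₂ (Nat.pos_of_ne_zero h); omega
          · omega
        rw [← hrd τ _ h7, if_neg hij]
        by_cases h8 : m + i * da + j * db = n + Dt
        · rw [if_pos ⟨h8, hij'⟩, if_pos h8]; simp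
        · rw [if_neg (fun h => h8 h.1), if_neg h8]; simp
    exact add_eq_right.1 h5
  have hR0 : R = 0 := by
    by_contra hne
    have hdeg : R.natDegree ≤ Q₁ * Q₂ - 1 := by
      apply natDegree_sum_le_of_forall_le
      intro m _
      apply natDegree_sum_le_of_forall_le
      intro i _
      apply natDegree_sum_le_of_forall_le
      intro j _
      exact (natDegree_C_mul_X_pow_le _ _).trans (hrd2 _)
    have hroots : (Finset.univ.image (algebraMap Fq k)) ⊆ R.roots.toFinset := by
      intro x hx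
      obtain ⟨s, -, rfl⟩ := Finset.mem_image.1 hx
      rw [Multiset.mem_toFinset, mem_roots hne]
      exact hR s
    have hcard' : (Finset.univ.image (algebraMap Fq k)).card = Fintype.card Fq := by
      rw [Finset.card_image_of_injective _ (algebraMap Fq k).injective, Finset.card_univ]
    have h7 := Finset.card_le_card hroots
    have h8 := (Multiset.toFinset_card_le R.roots).trans (card_roots' R)
    omega
  -- the coefficient of `R` at `Q₂ i₀ + j₀`
  have h5 := congrArg (fun P : k[X] => P.coeff (rd (Q₂ * i₀ + j₀))) hR0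
  have h6 : R.coeff (rd (Q₂ * i₀ + j₀)) = ∑ m ∈ range (D.N + 1), ∑ i ∈ range (B m), ∑ j ∈ range (B m),
      if m = n ∧ i = i₀ ∧ j = j₀ then c n i₀ j₀ else 0 := by
    show (∑ m ∈ range (D.N + 1), ∑ i ∈ range (B m), ∑ j ∈ range (B m),
      C (if m + i * da + j * db = n + Dt ∧ (i ≠ 0 ∨ j ≠ 0) then c m i j else 0) *
        Polynomial.X ^ rd (Q₂ * i + j) : k[X]).coeff _ = _
    rw [finsetSum_coeff]
    refine Finset.sum_congr rfl fun m _ => ?_
    rw [finsetSum_coeff]
    refine Finset.sum_congr rfl fun i hi => ?_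
    rw [finsetSum_coeff]
    refine Finset.sum_congr rfl fun j hj => ?_
    rw [Finset.mem_range] at hi hj
    rw [coeff_C_mul, coeff_X_pow]
    by_cases h7 : m = n ∧ i = i₀ ∧ j = j₀
    · obtain ⟨rfl, rfl, rfl⟩ := h7
      rw [if_pos (show m + i * da + j * db = m + Dt ∧ (i ≠ 0 ∨ j ≠ 0) from
        ⟨by show _ = _ + (i * da + j * db); omega, h0⟩), if_pos rfl, if_pos ⟨rfl, rfl, rfl⟩, mul_one]
    · rw [if_neg h7]
      by_cases h8 : m + i * da + j * db = n + Dt ∧ (i ≠ 0 ∨ j ≠ 0)
      · obtain ⟨h8, hij⟩ := h8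
        by_cases h9 : rd (Q₂ * i₀ + j₀) = rd (Q₂ * i + j)
        · -- congruent
          by_cases hmn : m < n
          · rw [hc0 m hmn i hi j hj]; simp
          · exfalso
            have h10 : 0 < Q₂ * i + j := by
              rcases hij with h | h
              · have := Nat.mul_pos hQ₂ (Nat.pos_of_ne_zero h); omega
              · omega
            have h11 : 0 < Q₂ * i₀ + j₀ := by
              rcases h0 with h | h
              · have := Nat.mul_pos hQ₂ (Nat.pos_of_ne_zero h); omega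
              · omega
            have hmod : Q₂ * i + j ≡ Q₂ * i₀ + j₀ [MOD (Q₁ * Q₂ - 1)] := by
              have h12 : (Q₂ * i + j - 1) ≡ (Q₂ * i₀ + j₀ - 1) [MOD (Q₁ * Q₂ - 1)] := by
                have h13 : (Q₂ * i₀ + j₀ - 1) % (Q₁ * Q₂ - 1) + 1 = (Q₂ * i + j - 1) % (Q₁ * Q₂ - 1) + 1 := h9
                exact (Nat.succ_injective h13).symm
              have h14 := h12.add_right 1
              rwa [Nat.sub_add_cancel h10, Nat.sub_add_cancel h11] at h14
            have h8' : m + i * da + j * db = n + (i₀ * da + j₀ * db) := h8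
            rcases cost_lt hQ₁ hQ₂ h1 h2 hi₀ hj₀ h0 _ i j rfl hij hmod with ⟨h15, h16⟩ | h15
            · subst h15 h16
              exact h7 ⟨by omega, rfl, rfl⟩
            · omega
        · rw [if_neg h9, mul_zero]
      · rw [if_neg h8]; simp
  rw [h6] at h5
  rw [coeff_zero, Finset.sum_eq_single n, Finset.sum_eq_single i₀, Finset.sum_eq_single j₀, if_pos ⟨rfl, rfl, rfl⟩] at h5
  · exact h5
  · intro j _ hj
    rw [if_neg (fun h => hj h.2.2)]
  · intro h
    exact absurd (Finset.mem_range.2 hjB) h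
  · intro i _ hi
    exact Finset.sum_eq_zero fun j _ => if_neg (fun h => hi h.2.1)
  · intro h
    exact absurd (Finset.mem_range.2 hiB) h
  · intro m _ hm
    exact Finset.sum_eq_zero fun i _ => Finset.sum_eq_zero fun j _ => if_neg (fun h => hm h.1)
  · intro h
    exact absurd (Finset.mem_range.2 (by omega)) h

/-- a class of positive roots for the twisted group: `a` (long), `b` (short), the elements `wd z l (t ^ Q₂) t` of `P` -/
structure TwCls (D : GDat ι Φ k G) (Fq : Type*) [Field Fq] [Algebra Fq k] (P : Subgroup G) (Q₁ Q₂ : ℕ) where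
  a : Φ
  b : Φ
  l : List (Φ × k × ℕ × ℕ)
  hl : ∀ x ∈ l, D.ht x.1 = x.2.2.1 * D.ht a + x.2.2.2 * D.ht b
  ha : ∀ s, wd D.z l s 0 = D.z a s
  hb : ∀ t, wd D.z l 0 t = D.z b t
  h1 : D.ht b < Q₁ * D.ht a
  h2 : D.ht a < Q₂ * D.ht b
  mem : ∀ t : Fq, wd D.z l (algebraMap Fq k t ^ Q₂) (algebraMap Fq k t) ∈ P

/-- **twisted groups**: the lowest component of a function fixed by `P` is in `K` -/
theorem low_split_tw {Fq : Type*} [Field Fq] [Fintype Fq] [Algebra Fq k] {P : Subgroup G} {Q₁ Q₂ : ℕ}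
    (hcard : Fintype.card Fq = Q₁ * Q₂)
    (hcls : ∀ c, ∃ T : TwCls D.toGDat Fq P Q₁ Q₂, (c = T.a ∧ D.qq c = Q₁) ∨ (c = T.b ∧ D.qq c = Q₂))
    (F : G → k) (hF : F ∈ D.L) (h1 : ∀ u ∈ P, ∀ g, F (g * u) = F g) (n : ℕ) (hlow : ∀ m < n, D.H m F = 0) :
    D.H n F ∈ D.K := by
  rw [DatR.mem_K]
  refine ⟨D.H_mem n hF, fun c m h0 hm => ?_⟩
  obtain ⟨T, hT⟩ := hcls c
  have h2 := low_tw D hcard T.l T.hl T.ha T.hb T.h1 T.h2 hF (fun t g => h1 _ (T.mem t) g) hlow
  rcases hT with ⟨rfl, hq⟩ | ⟨rfl, hq⟩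
  · exact h2.1 m h0 (by omega)
  · exact h2.2 m h0 (by omega)

end Cfsg.Agent.H203.TW
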